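import Groth.Agent.S1702
import Groth.Agent.CAlgT1.Misc3
import Groth.Agent.DivPts.Basic
import Groth.Agent.AssPts.Basic
import Mathlib.RingTheory.Localization.BaseChange
import Mathlib.RingTheory.Flat.Localization
import Mathlib.RingTheory.TensorProduct.Quotient

/-!
# Flatness and effective Cartier divisors
-/

set_option autoImplicit false
set_option linter.style.haveILetI false

noncomputable section

universe u

open CategoryTheory AlgebraicGeometry TopologicalSpace TensorProduct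

namespace Groth.Agent.CartFlat

theorem flat_kernel {R K F M : Type u} [CommRing R] [AddCommGroup K] [Module R K] [AddCommGroup F] [Module R F]
    [AddCommGroup M] [Module R M] [Module.Flat R F] [Module.Flat R M] {i : K →ₗ[R] F} {p : F →ₗ[R] M}
    (hi : Function.Injective i) (he : Function.Exact i p) (hp : Function.Surjective p) : Module.Flat R K := by
  rw [Module.Flat.iff_rTensor_injective']
  intro J x y hxy
  have h1 : Function.Injective (i.lTensor J) := LinearMap.lTensor_injective_of_exact_of_flat p hp i hi he J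
  have h2 : Function.Injective (J.subtype.rTensor F) := Module.Flat.iff_rTensor_injective'.1 inferInstance J
  refine h1 (h2 ?_)
  rw [← LinearMap.comp_apply, ← LinearMap.comp_apply, LinearMap.rTensor_comp_lTensor,
    ← LinearMap.lTensor_comp_rTensor, LinearMap.comp_apply, LinearMap.comp_apply, hxy]

/-- `B` is flat if `B[1/t]` and `B/tB` are, `t` a nonzerodivisor of `B`. -/
theorem flat_of_away_quot {A B B' : Type u} [CommRing A] [CommRing B] [CommRing B'] [Algebra A B] [Algebra A B']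
    [Algebra B B'] [IsScalarTower A B B'] (t : B) (ht : t ∈ nonZeroDivisors B) [IsLocalization.Away t B']
    [Module.Flat A B'] [Module.Flat A (B ⧸ Ideal.span {t})] : Module.Flat A B := by
  rw [Module.Flat.iff_lTensor_injective']
  intro J
  let μ : B →ₗ[A] B := (LinearMap.mulLeft B t).restrictScalars A
  let π : B →ₗ[A] B ⧸ Ideal.span {t} := (Ideal.Quotient.mkₐ A (Ideal.span {t})).toLinearMap
  have hex : Function.Exact μ π := fun z => by
    show Ideal.Quotient.mk (Ideal.span {t}) z = 0 ↔ _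
    rw [Ideal.Quotient.eq_zero_iff_mem, Ideal.mem_span_singleton]
    exact ⟨fun ⟨c, hc⟩ => ⟨c, hc.symm⟩, fun ⟨c, hc⟩ => ⟨c, hc.symm⟩⟩
  have hμi : Function.Injective μ := fun a b hab => (isRegular_iff_mem_nonZeroDivisors.2 ht).left hab
  have hμ : Function.Injective (μ.lTensor J) :=
    LinearMap.lTensor_injective_of_exact_of_flat π (Ideal.Quotient.mkₐ_surjective A _) μ hμi hex J
  have hμ' : ∀ z : B ⊗[A] J, t • z = 0 → z = 0 := by
    intro z hz
    refine (TensorProduct.comm A B J).injective (hμ (Eq.trans ?_ (by rw [map_zero, map_zero])))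
    have : ∀ w : B ⊗[A] J, μ.lTensor J (TensorProduct.comm A B J w) = TensorProduct.comm A B J (t • w) := by
      intro w
      induction w with
      | zero => simp
      | add a b ha hb => simp [ha, hb, smul_add]
      | tmul b j => simp [μ, TensorProduct.smul_tmul']
    rw [this, hz, map_zero]
  rw [injective_iff_map_eq_zero]
  intro x hx
  have hloc : TensorProduct.mk B B' (B ⊗[A] J) 1 x = 0 := by
    let e := TensorProduct.AlgebraTensorModule.cancelBaseChange A B B' B' J
    refine e.injective (Module.Flat.lTensor_preserves_injective_linearMap (M := B') J.subtype Subtype.val_injective ?_)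
    rw [map_zero, map_zero]
    have key : ∀ w : B ⊗[A] J, J.subtype.lTensor B' (e ((1 : B') ⊗ₜ[B] w)) =
        (IsScalarTower.toAlgHom A B B').toLinearMap.rTensor A (J.subtype.lTensor B w) := by
      intro w
      induction w with
      | zero => simp
      | add a b ha hb => simp [TensorProduct.tmul_add, ha, hb]
      | tmul b j =>
        rw [TensorProduct.AlgebraTensorModule.cancelBaseChange_tmul]
        simp [Algebra.smul_def]
    rw [TensorProduct.mk_apply, key, hx, map_zero]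
  obtain ⟨⟨s, n, rfl⟩, hs⟩ :=
    (IsLocalizedModule.eq_zero_iff (Submonoid.powers t) (TensorProduct.mk B B' (B ⊗[A] J) 1)).mp hloc
  replace hs : t ^ n • x = 0 := hs
  clear hloc hx
  induction n with
  | zero => simpa using hs
  | succ n ih => exact ih (hμ' _ (by rwa [pow_succ', mul_smul] at hs))

variable {X S : Scheme.{u}}

theorem exists_chart {𝓘 : X.IdealSheafData} (h : BlowUp.IsEffCartierIdeal 𝓘) (f : X ⟶ S) (x : X) :
    ∃ (U : S.Opens) (_ : IsAffineOpen U) (V : X.affineOpens) (_ : x ∈ V.1) (_ : V.1 ≤ f ⁻¹ᵁ U) (a : Γ(X, V.1)),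
      𝓘.ideal V = Ideal.span {a} := by
  obtain ⟨U, hU, hxU, -⟩ := exists_isAffineOpen_mem_and_subset (U := (⊤ : S.Opens)) (x := f x) trivial
  obtain ⟨W, hW, hxW, hWU⟩ := exists_isAffineOpen_mem_and_subset (U := f ⁻¹ᵁ U) (x := x) hxU
  obtain ⟨V, h₁, h₁', H⟩ := ModPairLib.exists_span h x W hxW
  obtain ⟨a, ha⟩ := H V le_rfl
  exact ⟨U, hU, V, h₁, h₁'.trans hWU, a, ha⟩

theorem flat_of_flat_off (f : X ⟶ S) (𝓘 : X.IdealSheafData) (hI : BlowUp.IsEffCartierIdeal 𝓘)
    [Flat (𝓘.subschemeι ≫ f)] (hflat : ∀ x : X, x ∉ 𝓘.support → (f.stalkMap x).hom.Flat) : Flat f := by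
  rw [HasRingHomProperty.iff_exists_appLE (P := @Flat) (RingHom.Flat.stableUnderComposition.stableUnderCompositionWithLocalizationAway RingHom.Flat.holdsForLocalizationAway).left]
  intro x
  obtain ⟨U, hU, V, hxV, hVU, a, ha⟩ := exists_chart hI f x
  refine ⟨⟨U, hU⟩, ⟨V.1, V.2⟩, hxV, hVU, ?_⟩
  let D := X.basicOpen a
  have hDV : D ≤ V.1 := X.basicOpen_le a
  have hDU : D ≤ f ⁻¹ᵁ U := hDV.trans hVU
  haveI hF : Flat (D.ι ≫ f) := by
    refine Flat.of_stalkMap _ fun y => ?_
    rw [Scheme.Hom.stalkMap_comp]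
    change ((D.ι.stalkMap y).hom.comp (f.stalkMap (D.ι y)).hom).Flat
    refine RingHom.Flat.comp (hflat _ fun hy => ?_) (RingHom.Flat.of_bijective
      ((ConcreteCategory.isIso_iff_bijective _).1 inferInstance))
    have hyD : D.ι y ∈ X.basicOpen a := y.2
    refine (AssPts.notMem_prime_iff V.2 (D.ι y) (hDV hyD) a).2 ((X.mem_basicOpen a _ (hDV hyD)).1 hyD) ?_
    exact (DivPts.mem_support_iff_le_prime 𝓘 V (hDV hyD)).1 hy (ha ▸ Ideal.mem_span_singleton_self a)
  have h1 := Scheme.Hom.flat_appLE (D.ι ≫ f) hU ((V.2.basicOpen a).preimage_of_isOpenImmersion D.ι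
    (by rw [Scheme.Opens.opensRange_ι]))
    (show D.ι ⁻¹ᵁ D ≤ (D.ι ≫ f) ⁻¹ᵁ U from D.ι.preimage_mono hDU)
  have h2 : (D.ι ≫ f).appLE U (D.ι ⁻¹ᵁ D) (D.ι.preimage_mono hDU) = f.appLE U D hDU ≫ D.ι.app D := by
    rw [← Scheme.Hom.appLE_comp_appLE D.ι f U D (D.ι ⁻¹ᵁ D) hDU le_rfl, Scheme.Hom.app_eq_appLE]
  rw [h2] at h1
  haveI : IsIso (D.ι.app D) := D.ι.isIso_app D (by rw [Scheme.Opens.opensRange_ι])
  have h3 : (f.appLE U D hDU).hom.Flat := by
    have := RingHom.Flat.comp h1 (RingHom.Flat.of_bijective (f := (inv (D.ι.app D)).hom)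
      ((ConcreteCategory.isIso_iff_bijective _).1 inferInstance))
    rwa [← CommRingCat.hom_comp, Category.assoc, IsIso.hom_inv_id, Category.comp_id] at this
  letI := (f.appLE U V.1 hVU).hom.toAlgebra
  letI := (f.appLE U D hDU).hom.toAlgebra
  letI := (X.presheaf.map (homOfLE hDV).op).hom.toAlgebra
  haveI : IsScalarTower Γ(S, U) Γ(X, V.1) Γ(X, D) := by
    refine IsScalarTower.of_algebraMap_eq' ?_
    show _ = (X.presheaf.map (homOfLE hDV).op).hom.comp (f.appLE U V.1 hVU).hom
    rw [← CommRingCat.hom_comp, Scheme.Hom.appLE_map]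
    rfl
  haveI : IsLocalization.Away a Γ(X, D) := V.2.isLocalization_basicOpen a
  haveI : Module.Flat Γ(S, U) Γ(X, D) := RingHom.flat_algebraMap_iff.1 h3
  haveI : Module.Flat Γ(S, U) (Γ(X, V.1) ⧸ Ideal.span {a}) := by
    have fa := S1702.flat_chart f 𝓘 hU V hVU
    rw [ha] at fa
    exact RingHom.flat_algebraMap_iff.1 fa
  exact RingHom.flat_algebraMap_iff.2 (flat_of_away_quot (B' := Γ(X, D)) a (ModPairLib.nzd_of_span hI V ha))

theorem flat_difference (f : X ⟶ S) (A B : X.IdealSheafData) (hA : BlowUp.IsEffCartierIdeal A)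
    (hB : BlowUp.IsEffCartierIdeal B) [Flat (A.subschemeι ≫ f)] [Flat ((A * B).subschemeι ≫ f)] :
    Flat (B.subschemeι ≫ f) := by
  rw [HasRingHomProperty.iff_exists_appLE (P := @Flat) (RingHom.Flat.stableUnderComposition.stableUnderCompositionWithLocalizationAway RingHom.Flat.holdsForLocalizationAway).left]
  intro z
  let ι := B.subschemeι
  obtain ⟨U, hU, hzU, -⟩ := exists_isAffineOpen_mem_and_subset (U := (⊤ : S.Opens)) (x := f (ι z)) trivial
  obtain ⟨W, hW, hzW, hWU⟩ := exists_isAffineOpen_mem_and_subset (U := f ⁻¹ᵁ U) (x := ι z) hzU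
  obtain ⟨V₁, h₁, h₁', H₁⟩ := ModPairLib.exists_span hA (ι z) W hzW
  obtain ⟨V, hz, hV', H₂⟩ := ModPairLib.exists_span hB (ι z) V₁.1 h₁
  obtain ⟨a, ha⟩ := H₁ V hV'
  obtain ⟨b, hb⟩ := H₂ V le_rfl
  have hVU : V.1 ≤ f ⁻¹ᵁ U := (hV'.trans h₁').trans hWU
  have hι : IsAffineOpen (ι ⁻¹ᵁ V.1) := V.2.preimage ι
  refine ⟨⟨U, hU⟩, ⟨ι ⁻¹ᵁ V.1, hι⟩, hz, ι.preimage_mono hVU, ?_⟩
  letI := (f.appLE U V.1 hVU).hom.toAlgebra
  have fa := S1702.flat_chart f A hU V hVU
  have fab := S1702.flat_chart f (A * B) hU V hVU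
  haveI : Module.Flat Γ(S, U) (Γ(X, V.1) ⧸ Ideal.span {a}) := by
    rw [ha] at fa
    exact RingHom.flat_algebraMap_iff.1 fa
  haveI : Module.Flat Γ(S, U) (Γ(X, V.1) ⧸ Ideal.span {a * b}) := by
    rw [Scheme.IdealSheafData.ideal_mul, Pi.mul_apply, ha, hb, Ideal.span_singleton_mul_span_singleton] at fab
    exact RingHom.flat_algebraMap_iff.1 fab
  let i₀ : (Γ(X, V.1) ⧸ Ideal.span {b}) →ₗ[Γ(X, V.1)] Γ(X, V.1) ⧸ Ideal.span {a * b} :=
    Submodule.mapQ (Ideal.span {b}) (Ideal.span {a * b}) (LinearMap.mulLeft Γ(X, V.1) a) (fun w hw => by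
      obtain ⟨c, rfl⟩ := Ideal.mem_span_singleton.1 hw
      exact Ideal.mem_span_singleton.2 ⟨c, by simp [mul_assoc]⟩)
  let p₀ : (Γ(X, V.1) ⧸ Ideal.span {a * b}) →ₗ[Γ(X, V.1)] Γ(X, V.1) ⧸ Ideal.span {a} :=
    Submodule.mapQ (Ideal.span {a * b}) (Ideal.span {a}) LinearMap.id (fun w hw => by
      obtain ⟨c, rfl⟩ := Ideal.mem_span_singleton.1 hw
      exact Ideal.mem_span_singleton.2 ⟨b * c, by simp [mul_assoc]⟩)
  have hi : Function.Injective i₀ := by
    rw [injective_iff_map_eq_zero]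
    intro w hw
    obtain ⟨w, rfl⟩ := Submodule.Quotient.mk_surjective _ w
    have hw' : a * w ∈ Ideal.span {a * b} := (Submodule.Quotient.mk_eq_zero _).1 hw
    obtain ⟨c, hc⟩ := Ideal.mem_span_singleton.1 hw'
    refine (Submodule.Quotient.mk_eq_zero _).2 (Ideal.mem_span_singleton.2 ⟨c, ?_⟩)
    exact (isRegular_iff_mem_nonZeroDivisors.2 (ModPairLib.nzd_of_span hA V ha)).left (hc.trans (mul_assoc a b c))
  have hp : Function.Surjective p₀ := by
    intro w
    obtain ⟨w, rfl⟩ := Submodule.Quotient.mk_surjective _ w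
    exact ⟨Submodule.Quotient.mk w, rfl⟩
  have he : Function.Exact i₀ p₀ := by
    intro w
    obtain ⟨w, rfl⟩ := Submodule.Quotient.mk_surjective _ w
    constructor
    · intro hw
      obtain ⟨c, rfl⟩ := Ideal.mem_span_singleton.1 ((Submodule.Quotient.mk_eq_zero _).1 hw)
      exact ⟨Submodule.Quotient.mk c, rfl⟩
    · rintro ⟨v, hv⟩
      obtain ⟨v, rfl⟩ := Submodule.Quotient.mk_surjective _ v
      rw [← hv]
      exact (Submodule.Quotient.mk_eq_zero _).2 (Ideal.mem_span_singleton.2 ⟨v, rfl⟩)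
  have hflat : Module.Flat Γ(S, U) (Γ(X, V.1) ⧸ Ideal.span {b}) :=
    flat_kernel (i := i₀.restrictScalars Γ(S, U)) (p := p₀.restrictScalars Γ(S, U)) hi he hp
  have hk : RingHom.ker (ι.app V.1).hom = Ideal.span {b} := by
    rw [Scheme.IdealSheafData.ker_subschemeι_app, hb]
  let σ := ((Ideal.quotEquivOfEq hk).symm.trans
    (RingHom.quotientKerEquivOfSurjective (ι.app_surjective V.1 V.2)))
  have h4 := RingHom.Flat.comp (RingHom.flat_algebraMap_iff.2 hflat) (RingHom.Flat.of_bijective (f := σ.toRingHom) σ.bijective)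
  show ((ι ≫ f).appLE U (ι ⁻¹ᵁ V.1) (ι.preimage_mono hVU)).hom.Flat
  rw [← Scheme.Hom.appLE_comp_appLE ι f U V.1 (ι ⁻¹ᵁ V.1) hVU le_rfl, ← Scheme.Hom.app_eq_appLE]
  exact h4

/-- Variant of the adic flatness criterion with an arbitrary base. -/
theorem flat_of_flat_adic' {A B : Type u} [CommRing A] [CommRing B] [IsNoetherianRing B] [IsLocalRing B]
    [Algebra A B] (M : Type u) [AddCommGroup M] [Module B M] [Module A M] [IsScalarTower A B M]
    [Module.Finite B M] (I : Ideal B) (hI : I ≠ ⊤)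
    (h : ∀ n : ℕ, Module.Flat A (M ⧸ (I ^ (n + 1) • (⊤ : Submodule B M)))) : Module.Flat A M := by
  refine Module.Flat.iff_rTensor_injective.2 fun J hJ => (injective_iff_map_eq_zero _).2 fun z hz => ?_
  let e : ↥J ⊗[A] M ≃ₗ[A] M ⊗[A] ↥J := TensorProduct.comm A _ _
  haveI : Module.Finite A J := Module.Finite.iff_fg.2 hJ
  haveI : Module.Finite B (M ⊗[A] J) := by
    refine Module.Finite.of_surjective
      (TensorProduct.AlgebraTensorModule.cancelBaseChange A B B M J).toLinearMap (LinearEquiv.surjective _)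
  have hzero : e z = 0 := by
    rw [← Submodule.mem_bot B, ← Ideal.iInf_pow_smul_eq_bot_of_isLocalRing (M := M ⊗[A] J) I hI]
    refine (Submodule.mem_iInf _).2 fun n => ?_
    refine Submodule.smul_mono_left (Ideal.pow_le_pow_right (Nat.le_succ n)) ?_
    let N : Submodule B M := I ^ (n + 1) • ⊤
    have h1 : (N.mkQ.restrictScalars A).lTensor J z = 0 := by
      haveI := h n
      refine Module.Flat.iff_rTensor_injective'.1 (h n) J (Eq.trans ?_ (map_zero _).symm)
      rw [← LinearMap.comp_apply, LinearMap.rTensor_comp_lTensor, ← LinearMap.lTensor_comp_rTensor,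
        LinearMap.comp_apply, hz, map_zero]
    have hex : Function.Exact (N.subtype.restrictScalars A) (N.mkQ.restrictScalars A) :=
      LinearMap.exact_subtype_mkQ N
    obtain ⟨w, rfl⟩ := (lTensor_exact J hex N.mkQ_surjective z).1 h1
    clear hz h1
    induction w using TensorProduct.induction_on with
    | zero => simp
    | add a b ha hb => rw [map_add, map_add]; exact add_mem ha hb
    | tmul j x =>
      show (x : M) ⊗ₜ[A] j ∈ _
      obtain ⟨x, hx⟩ := x
      show x ⊗ₜ[A] j ∈ _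
      refine Submodule.smul_induction_on hx (fun r hr m _ => ?_) fun a b ha hb => ?_
      · rw [← TensorProduct.smul_tmul']
        exact Submodule.smul_mem_smul hr Submodule.mem_top
      · rw [TensorProduct.add_tmul]
        exact add_mem ha hb
  exact e.injective (hzero.trans (map_zero e).symm)

theorem flat_pow_of_flat {A B : Type u} [CommRing A] [CommRing B] [Algebra A B] (t : B)
    (ht : t ∈ nonZeroDivisors B) [Module.Flat A (B ⧸ Ideal.span {t})] :
    ∀ n : ℕ, Module.Flat A (B ⧸ Ideal.span {t ^ (n + 1)})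
  | 0 => by rw [zero_add, pow_one]; infer_instance
  | n + 1 => by
    haveI := flat_pow_of_flat (A := A) t ht n
    rw [pow_succ' t (n + 1)]
    exact S1702.flat_quot_mul (R := A) (a := t) (b := t ^ (n + 1)) ht

/-- The local ring is flat over the base at a point of a divisor flat over the base. -/
theorem flat_stalk_of_mem (f : X ⟶ S) (𝓘 : X.IdealSheafData) (hI : BlowUp.IsEffCartierIdeal 𝓘)
    [Flat (𝓘.subschemeι ≫ f)] {x : X} (hx : x ∈ 𝓘.support) [IsNoetherianRing (X.presheaf.stalk x)] :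
    (f.stalkMap x).hom.Flat := by
  obtain ⟨U, hU, V, hxV, hVU, a, ha⟩ := exists_chart hI f x
  letI := (f.appLE U V.1 hVU).hom.toAlgebra
  letI := (X.presheaf.germ V.1 x hxV).hom.toAlgebra
  letI := (S.presheaf.germ U (f x) (hVU hxV)).hom.toAlgebra
  letI := (f.stalkMap x).hom.toAlgebra
  letI := ((f.stalkMap x).hom.comp (S.presheaf.germ U (f x) (hVU hxV)).hom).toAlgebra
  haveI : IsScalarTower Γ(S, U) (S.presheaf.stalk (f x)) (X.presheaf.stalk x) := IsScalarTower.of_algebraMap_eq' rfl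
  haveI : IsScalarTower Γ(S, U) Γ(X, V.1) (X.presheaf.stalk x) := by
    refine IsScalarTower.of_algebraMap_eq fun r => ?_
    show f.stalkMap x (S.presheaf.germ U (f x) (hVU hxV) r) = X.presheaf.germ V.1 x hxV (f.appLE U V.1 hVU r)
    refine (f.germ_stalkMap_apply U x (hVU hxV) r).trans ?_
    exact (TopCat.Presheaf.germ_res_apply X.presheaf (homOfLE hVU) x hxV (f.app U r)).symm
  haveI : IsLocalization.AtPrime (X.presheaf.stalk x) (V.2.primeIdealOf ⟨x, hxV⟩).asIdeal :=
    V.2.isLocalization_stalk ⟨x, hxV⟩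
  haveI : IsLocalization.AtPrime (S.presheaf.stalk (f x)) (hU.primeIdealOf ⟨f x, hVU hxV⟩).asIdeal :=
    hU.isLocalization_stalk ⟨f x, hVU hxV⟩
  haveI : Module.Flat Γ(S, U) (Γ(X, V.1) ⧸ Ideal.span {a}) := by
    have fa := S1702.flat_chart f 𝓘 hU V hVU
    rw [ha] at fa
    exact RingHom.flat_algebraMap_iff.1 fa
  haveI : Module.Flat Γ(X, V.1) (X.presheaf.stalk x) :=
    IsLocalization.flat (X.presheaf.stalk x) (V.2.primeIdealOf ⟨x, hxV⟩).asIdeal.primeCompl
  have hnzd := ModPairLib.nzd_of_span hI V ha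
  have hflatn : ∀ n : ℕ, Module.Flat Γ(S, U)
      (X.presheaf.stalk x ⧸ (Ideal.span {a ^ (n + 1)}).map (algebraMap Γ(X, V.1) (X.presheaf.stalk x))) := by
    intro n
    haveI := flat_pow_of_flat (A := Γ(S, U)) a hnzd n
    haveI : Module.Flat Γ(S, U) ((Γ(X, V.1) ⧸ Ideal.span {a ^ (n + 1)}) ⊗[Γ(X, V.1)] X.presheaf.stalk x) :=
      Module.Flat.trans Γ(S, U) (Γ(X, V.1) ⧸ Ideal.span {a ^ (n + 1)}) _
    exact Module.Flat.of_linearEquiv ((((Algebra.TensorProduct.quotIdealMapEquivTensorQuot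
      (X.presheaf.stalk x) (Ideal.span {a ^ (n + 1)})).toLinearEquiv.restrictScalars Γ(X, V.1)).trans
        (TensorProduct.comm Γ(X, V.1) _ _)).restrictScalars Γ(S, U))
  have hmain : Module.Flat Γ(S, U) (X.presheaf.stalk x) := by
    refine flat_of_flat_adic' (X.presheaf.stalk x)
      ((Ideal.span {a}).map (algebraMap Γ(X, V.1) (X.presheaf.stalk x))) ?_ fun n => ?_
    · intro htop
      have hle : Ideal.span {a} ≤ (V.2.primeIdealOf ⟨x, hxV⟩).asIdeal :=
        ha ▸ (DivPts.mem_support_iff_le_prime 𝓘 V hxV).1 hx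
      refine IsLocalRing.maximalIdeal.isMaximal (X.presheaf.stalk x) |>.ne_top (top_le_iff.1 (htop ▸ ?_))
      refine Ideal.map_le_iff_le_comap.2 (hle.trans ?_)
      exact (IsLocalization.AtPrime.comap_maximalIdeal (X.presheaf.stalk x) (V.2.primeIdealOf ⟨x, hxV⟩).asIdeal).ge
    · haveI := hflatn n
      rw [← Ideal.map_pow, Ideal.span_singleton_pow, smul_eq_mul, Ideal.mul_top]
      infer_instance
  exact RingHom.flat_algebraMap_iff.2 ((Module.flat_iff_of_isLocalization (S.presheaf.stalk (f x))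
    (hU.primeIdealOf ⟨f x, hVU hxV⟩).asIdeal.primeCompl (X.presheaf.stalk x)).2 hmain)

end Groth.Agent.CartFlat
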